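import Cfsg.Agent.Lib.Cert.M12.L
import Cfsg.Agent.Lib.Cert.Fus

set_option autoImplicit false
set_option maxRecDepth 100000

namespace Cfsg.Agent.Ct.M12

open Cfsg.Agent.PC

open Cfsg.Agent.Fi Cfsg.Agent.Ct
def Y_t : TL := (TL.node (TL.node (TL.node (TL.node (TL.leaf [nat_lit 0]) (TL.leaf [nat_lit 0, nat_lit 2, nat_lit 3, nat_lit 5])) (TL.node (TL.leaf [nat_lit 3, nat_lit 5]) (TL.leaf [nat_lit 1, nat_lit 3, nat_lit 4]))) (TL.node (TL.node (TL.leaf [nat_lit 1, nat_lit 2]) (TL.leaf [nat_lit 1, nat_lit 2, nat_lit 5])) (TL.node (TL.leaf [nat_lit 2, nat_lit 3, nat_lit 4]) (TL.leaf [nat_lit 5])))) (TL.node (TL.node (TL.node (TL.leaf []) (TL.leaf [nat_lit 2])) (TL.node (TL.leaf [nat_lit 1, nat_lit 3, nat_lit 5]) (TL.leaf [nat_lit 4]))) (TL.node (TL.node (TL.leaf [nat_lit 1, nat_lit 3]) (TL.leaf [nat_lit 3])) (TL.leaf [nat_lit 1]))))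
noncomputable def Y (i : ℕ) : List ℕ := TL.get Y_t i
def St_t : TL := (TL.node (TL.node (TL.node (TL.node (TL.leaf [nat_lit 0, nat_lit 0]) (TL.leaf [nat_lit 8, nat_lit 4])) (TL.node (TL.leaf [nat_lit 0, nat_lit 1, nat_lit 15]) (TL.leaf [nat_lit 12, nat_lit 3]))) (TL.node (TL.node (TL.leaf [nat_lit 0, nat_lit 1, nat_lit 13]) (TL.leaf [nat_lit 10, nat_lit 4])) (TL.leaf [nat_lit 4, nat_lit 5]))) (TL.node (TL.node (TL.node (TL.leaf [nat_lit 0, nat_lit 1, nat_lit 12]) (TL.leaf [nat_lit 3, nat_lit 5])) (TL.node (TL.leaf [nat_lit 4, nat_lit 5, nat_lit 16]) (TL.leaf [nat_lit 5, nat_lit 3]))) (TL.node (TL.node (TL.leaf [nat_lit 0, nat_lit 1, nat_lit 14]) (TL.leaf [nat_lit 2, nat_lit 6])) (TL.leaf [nat_lit 2, nat_lit 5]))))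
noncomputable def St (i : ℕ) : List ℕ := TL.get St_t i
def F (i : ℕ) : ℕ := Nat.land (Nat.shiftRight (nat_lit 0xedb970) (Nat.mul (nat_lit 4) i)) (nat_lit 15)
theorem fus {K : Type*} [Group K] (e : G12 ≃* K) (S : Sylow 2 K) : (groupFusionSystem (S : Subgroup K)).IsSimple 2 :=
  md.fus loc (by decide) (by decide +kernel) (md.scl (Y := Y) (St := St) (F := F) (n := (nat_lit 14)) (by decide +kernel)) e S

end Cfsg.Agent.Ct.M12
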