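import Cfsg.Agent.Lib.Cert.Mat
import Cfsg.Agent.Lib.Cert.Out

set_option autoImplicit false
set_option maxRecDepth 100000

namespace Cfsg.Agent.Ct.M12

open Cfsg.Agent.PC

open Cfsg.Agent.Fi Cfsg.Agent.Ct
def W_t : TL := (TL.node (TL.node (TL.node (TL.node (TL.node (TL.leaf [nat_lit 1, nat_lit 5, nat_lit 4, nat_lit 4, nat_lit 4, nat_lit 4, nat_lit 4, nat_lit 4, nat_lit 4, nat_lit 4, nat_lit 4, nat_lit 4, nat_lit 4, nat_lit 4, nat_lit 4, nat_lit 4, nat_lit 4, nat_lit 4, nat_lit 4, nat_lit 4, nat_lit 4, nat_lit 4, nat_lit 4, nat_lit 4, nat_lit 4, nat_lit 4, nat_lit 4, nat_lit 4, nat_lit 4, nat_lit 4, nat_lit 4, nat_lit 4, nat_lit 2, nat_lit 5, nat_lit 5, nat_lit 5, nat_lit 5, nat_lit 5, nat_lit 5, nat_lit 5, nat_lit 3]) (TL.leaf [nat_lit 3, nat_lit 0, nat_lit 0, nat_lit 0, nat_lit 5, nat_lit 5, nat_lit 5, nat_lit 5, nat_lit 5, nat_lit 5, nat_lit 5, nat_lit 2, nat_lit 2, nat_lit 2, nat_lit 1, nat_lit 5, nat_lit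 1, nat_lit 1, nat_lit 1, nat_lit 3, nat_lit 1])) (TL.leaf [nat_lit 5, nat_lit 5, nat_lit 1, nat_lit 1, nat_lit 1, nat_lit 3, nat_lit 1, nat_lit 5, nat_lit 3, nat_lit 3, nat_lit 3])) (TL.node (TL.leaf [nat_lit 3, nat_lit 0, nat_lit 0, nat_lit 0, nat_lit 5, nat_lit 2, nat_lit 1, nat_lit 1, nat_lit 1, nat_lit 0, nat_lit 4, nat_lit 4, nat_lit 4, nat_lit 4, nat_lit 4, nat_lit 4, nat_lit 4, nat_lit 4, nat_lit 4, nat_lit 4, nat_lit 3, nat_lit 2, nat_lit 3]) (TL.leaf [nat_lit 3, nat_lit 3, nat_lit 3, nat_lit 5, nat_lit 4, nat_lit 4, nat_lit 4, nat_lit 4, nat_lit 4, nat_lit 4, nat_lit 4, nat_lit 4, nat_lit 4, nat_lit 4, nat_lit 3, nat_lit 4, nat_lit 4, nat_lit 4, nat_lit 4, nat_lit 4, nat_lit 4, nat_lit 4, nat_lit 4, nat_lit 4, nat_lit 4, nat_lit 5, nat_lit 5, nat_lit 5, nat_lit 5, nat_lit 5, nat_lit 5, nat_lit 5, nat_lit 5, nat_lit 5, nat_lit 5, nat_lit 5, nat_lit 5, nat_lit 5, nat_lit 5]))) (TL.node (TL.node (TL.leaf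 [nat_lit 4, nat_lit 5, nat_lit 5, nat_lit 5, nat_lit 5, nat_lit 5, nat_lit 5, nat_lit 5, nat_lit 1, nat_lit 1, nat_lit 1, nat_lit 0, nat_lit 3, nat_lit 5, nat_lit 5, nat_lit 5, nat_lit 5, nat_lit 5, nat_lit 5, nat_lit 5, nat_lit 4, nat_lit 3, nat_lit 3, nat_lit 3, nat_lit 4]) (TL.leaf [nat_lit 1, nat_lit 5, nat_lit 4, nat_lit 4, nat_lit 4, nat_lit 4, nat_lit 4, nat_lit 4, nat_lit 4, nat_lit 4, nat_lit 4, nat_lit 4, nat_lit 5, nat_lit 5, nat_lit 2, nat_lit 2, nat_lit 3, nat_lit 3, nat_lit 3])) (TL.node (TL.leaf [nat_lit 5, nat_lit 5, nat_lit 5, nat_lit 5, nat_lit 5, nat_lit 5, nat_lit 5, nat_lit 4, nat_lit 3, nat_lit 3, nat_lit 3, nat_lit 4, nat_lit 4, nat_lit 4, nat_lit 4, nat_lit 4, nat_lit 4, nat_lit 4, nat_lit 4, nat_lit 4, nat_lit 4, nat_lit 0, nat_lit 0, nat_lit 0, nat_lit 5]) (TL.leaf [nat_lit 3, nat_lit 3, nat_lit 3, nat_lit 4, nat_lit 4, nat_lit 4, nat_lit 4, nat_lit 4, nat_lit 4, nat_lit 4, nat_lit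 4, nat_lit 4, nat_lit 4, nat_lit 1, nat_lit 1, nat_lit 1, nat_lit 0, nat_lit 1, nat_lit 5, nat_lit 0, nat_lit 1, nat_lit 3, nat_lit 3, nat_lit 3])))) (TL.node (TL.node (TL.node (TL.leaf [nat_lit 3, nat_lit 3, nat_lit 3, nat_lit 5, nat_lit 4, nat_lit 4, nat_lit 4, nat_lit 4, nat_lit 4, nat_lit 4, nat_lit 4, nat_lit 4, nat_lit 4, nat_lit 4, nat_lit 3, nat_lit 3, nat_lit 3, nat_lit 1, nat_lit 1, nat_lit 1, nat_lit 5, nat_lit 5, nat_lit 5, nat_lit 5, nat_lit 5, nat_lit 5, nat_lit 5, nat_lit 2, nat_lit 2, nat_lit 2, nat_lit 1, nat_lit 4, nat_lit 2]) (TL.leaf [nat_lit 3, nat_lit 3, nat_lit 3, nat_lit 5, nat_lit 5, nat_lit 5, nat_lit 5, nat_lit 5, nat_lit 5, nat_lit 5, nat_lit 4, nat_lit 4, nat_lit 4, nat_lit 4, nat_lit 4, nat_lit 4, nat_lit 4, nat_lit 4, nat_lit 4, nat_lit 4, nat_lit 1, nat_lit 1, nat_lit 0, nat_lit 1, nat_lit 3, nat_lit 3, nat_lit 3])) (TL.node (TL.leaf [nat_lit 3, nat_lit 0, nat_lit 0, nat_lit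 0, nat_lit 2, nat_lit 2, nat_lit 2, nat_lit 5, nat_lit 5, nat_lit 5, nat_lit 5, nat_lit 5, nat_lit 5, nat_lit 5, nat_lit 5, nat_lit 5, nat_lit 5, nat_lit 5, nat_lit 5, nat_lit 5, nat_lit 5, nat_lit 2, nat_lit 5]) (TL.leaf [nat_lit 0, nat_lit 3, nat_lit 1, nat_lit 2, nat_lit 5, nat_lit 5, nat_lit 5, nat_lit 5, nat_lit 5, nat_lit 5, nat_lit 5, nat_lit 2, nat_lit 2, nat_lit 2, nat_lit 0, nat_lit 4, nat_lit 2, nat_lit 1, nat_lit 1, nat_lit 1]))) (TL.node (TL.node (TL.leaf [nat_lit 0, nat_lit 3, nat_lit 1, nat_lit 5, nat_lit 5, nat_lit 5, nat_lit 5, nat_lit 5, nat_lit 5, nat_lit 5, nat_lit 5, nat_lit 5, nat_lit 5, nat_lit 5, nat_lit 5, nat_lit 5, nat_lit 5, nat_lit 0, nat_lit 4, nat_lit 4, nat_lit 4, nat_lit 4, nat_lit 4, nat_lit 4, nat_lit 4, nat_lit 4, nat_lit 4, nat_lit 4, nat_lit 4, nat_lit 4, nat_lit 4, nat_lit 4, nat_lit 4, nat_lit 4, nat_lit 4, nat_lit 4, nat_lit 4, nat_lit 4, nat_lit 2, nat_lit 2, nat_lit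 2, nat_lit 1]) (TL.leaf [])) (TL.node (TL.leaf [nat_lit 2, nat_lit 1, nat_lit 3, nat_lit 3, nat_lit 3, nat_lit 0, nat_lit 0, nat_lit 0, nat_lit 1, nat_lit 3, nat_lit 0, nat_lit 4, nat_lit 5, nat_lit 0, nat_lit 0, nat_lit 0]) (TL.leaf [nat_lit 4, nat_lit 5, nat_lit 5, nat_lit 5, nat_lit 5, nat_lit 5, nat_lit 5, nat_lit 5, nat_lit 1, nat_lit 1, nat_lit 1, nat_lit 2, nat_lit 2, nat_lit 2, nat_lit 5, nat_lit 5, nat_lit 5, nat_lit 5, nat_lit 5, nat_lit 5, nat_lit 5, nat_lit 5, nat_lit 5, nat_lit 5, nat_lit 5, nat_lit 5, nat_lit 5, nat_lit 5, nat_lit 2, nat_lit 0])))))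
noncomputable def W (i : ℕ) : List ℕ := TL.get W_t i
def Qf_t : TN := (TN.leaf (nat_lit 0x546abb86cd2bd223d200999c8930839d2b688ce67dd3253984289604060dbd5c7509f2994c0b2d048a68c185b02cd6ea86833a9027da40892f04b1a63d56e2a1e38dd905509298ac00b526bdab49ca307b9ac5a928398a41882073d719c2e4a9c722d8c850a896040d8a9e59b292b5c03a9c887257069841addc758e72794c8b2809a122c141a1b2ee78c0a27d4249a90ca35c690c098d1ea392662d5a1b5d235c1cc10112bd8aa38629754c25cda0a41e323112a2aabbb0e67b9289c5a2b40a00c883b5ca75016973cc48ce01a36ac10d128deaa3816d7ba04b4cc1a24a260e48b2dea382f0a95a38cd21a19cc112485c6b3a22d07b9a2b9d32518a323001))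
noncomputable def Qf (i : ℕ) : ℕ := get9 Qf_t (nat_lit 5) (nat_lit 31) i
noncomputable def Q (j c : ℕ) : ℕ := Qf (Nat.add (Nat.mul j (nat_lit 24)) c)
def B : List ℕ := [nat_lit 17, nat_lit 1, nat_lit 16, nat_lit 14, nat_lit 12, nat_lit 0, nat_lit 23]
noncomputable def q (j : ℕ) : G12 := ev (sub G12 (Spor.fam Spor.c12)) (W j)
noncomputable def f0 : ℕ → ℕ := tabE (Spor.TP Spor.c12) Q W (nat_lit 17)
theorem a0 : Nat.beq (rng f0 (nat_lit 0) (nat_lit 24)) (nat_lit 0) = true := by decide +kernel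
theorem h0 : ∀ i < 24, f0 i = 0 := by
  have h := zero_lt_zero f0
  have h := zero_lt_add (a := (nat_lit 0)) (n := (nat_lit 24)) (b := (nat_lit 24)) h a0 rfl
  exact h
theorem md : Md Spor.gp 24 B q Q 17 := (md12).words (by decide +kernel) h0
def R_t1 : TL := (TL.node (TL.node (TL.node (TL.node (TL.node (TL.node (TL.leaf []) (TL.leaf [nat_lit 0])) (TL.leaf [nat_lit 0])) (TL.node (TL.node (TL.leaf [nat_lit 0]) (TL.leaf [nat_lit 0])) (TL.leaf [nat_lit 0]))) (TL.node (TL.node (TL.node (TL.leaf []) (TL.leaf [])) (TL.leaf [])) (TL.node (TL.node (TL.leaf []) (TL.leaf [])) (TL.leaf [])))) (TL.node (TL.node (TL.node (TL.node (TL.leaf []) (TL.leaf [])) (TL.leaf [])) (TL.node (TL.node (TL.leaf []) (TL.leaf [])) (TL.leaf []))) (TL.node (TL.node (TL.node (TL.leaf []) (TL.leaf [])) (TL.leaf [])) (TL.node (TL.node (TL.leaf []) (TL.leaf [])) (TL.leaf []))))) (TL.node (TL.node (TL.node (TL.node (TL.node (TL.leaf []) (TL.leaf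 [nat_lit 0])) (TL.leaf [])) (TL.node (TL.node (TL.leaf []) (TL.leaf [nat_lit 0, nat_lit 2, nat_lit 4])) (TL.leaf []))) (TL.node (TL.node (TL.node (TL.leaf []) (TL.leaf [])) (TL.leaf [])) (TL.node (TL.node (TL.leaf []) (TL.leaf [])) (TL.leaf [])))) (TL.node (TL.node (TL.node (TL.node (TL.leaf []) (TL.leaf [])) (TL.leaf [])) (TL.node (TL.node (TL.leaf []) (TL.leaf [])) (TL.leaf []))) (TL.node (TL.node (TL.node (TL.leaf []) (TL.leaf [])) (TL.leaf [])) (TL.node (TL.node (TL.leaf []) (TL.leaf [])) (TL.leaf []))))))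
def R_t2 : TL := (TL.node (TL.node (TL.node (TL.node (TL.node (TL.node (TL.leaf []) (TL.leaf [nat_lit 0, nat_lit 2])) (TL.leaf [nat_lit 0])) (TL.node (TL.node (TL.leaf []) (TL.leaf [nat_lit 2])) (TL.leaf [nat_lit 0, nat_lit 2]))) (TL.node (TL.node (TL.node (TL.leaf []) (TL.leaf [])) (TL.leaf [])) (TL.node (TL.node (TL.leaf []) (TL.leaf [])) (TL.leaf [])))) (TL.node (TL.node (TL.node (TL.node (TL.leaf []) (TL.leaf [])) (TL.leaf [])) (TL.node (TL.node (TL.leaf []) (TL.leaf [])) (TL.leaf []))) (TL.node (TL.node (TL.node (TL.leaf []) (TL.leaf [])) (TL.leaf [])) (TL.node (TL.node (TL.leaf []) (TL.leaf [])) (TL.leaf []))))) (TL.node (TL.node (TL.node (TL.node (TL.node (TL.leaf []) (TL.leaf [])) (TL.leaf [])) (TL.node (TL.node (TL.leaf []) (TL.leaf [])) (TL.leaf []))) (TL.node (TL.node (TL.node (TL.leaf []) (TL.leaf [])) (TL.leaf [])) (TL.node (TL.node (TL.leaf []) (TL.leaf [])) (TL.leaf [])))) (TL.node (TL.node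 (TL.node (TL.node (TL.leaf []) (TL.leaf [])) (TL.leaf [])) (TL.node (TL.node (TL.leaf []) (TL.leaf [])) (TL.leaf []))) (TL.node (TL.node (TL.node (TL.leaf []) (TL.leaf [])) (TL.leaf [])) (TL.node (TL.node (TL.leaf []) (TL.leaf [])) (TL.leaf []))))))
def R_t3 : TL := (TL.node R_t1 R_t2)
def R_t4 : TL := (TL.node (TL.node (TL.node (TL.node (TL.node (TL.node (TL.leaf []) (TL.leaf [nat_lit 1])) (TL.leaf [nat_lit 1])) (TL.node (TL.node (TL.leaf [nat_lit 0]) (TL.leaf [nat_lit 1])) (TL.leaf [nat_lit 0, nat_lit 1]))) (TL.node (TL.node (TL.node (TL.leaf []) (TL.leaf [])) (TL.leaf [])) (TL.node (TL.node (TL.leaf []) (TL.leaf [])) (TL.leaf [])))) (TL.node (TL.node (TL.node (TL.node (TL.leaf []) (TL.leaf [])) (TL.leaf [])) (TL.node (TL.node (TL.leaf []) (TL.leaf [])) (TL.leaf []))) (TL.node (TL.node (TL.node (TL.leaf []) (TL.leaf [])) (TL.leaf [])) (TL.node (TL.node (TL.leaf []) (TL.leaf [])) (TL.leaf []))))) (TL.node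 (TL.node (TL.node (TL.node (TL.node (TL.leaf []) (TL.leaf [])) (TL.leaf [])) (TL.node (TL.node (TL.leaf []) (TL.leaf [nat_lit 1, nat_lit 2])) (TL.leaf []))) (TL.node (TL.node (TL.node (TL.leaf []) (TL.leaf [])) (TL.leaf [])) (TL.node (TL.node (TL.leaf []) (TL.leaf [])) (TL.leaf [])))) (TL.node (TL.node (TL.node (TL.node (TL.leaf []) (TL.leaf [])) (TL.leaf [])) (TL.node (TL.node (TL.leaf []) (TL.leaf [])) (TL.leaf []))) (TL.node (TL.node (TL.node (TL.leaf []) (TL.leaf [])) (TL.leaf [])) (TL.node (TL.node (TL.leaf []) (TL.leaf [])) (TL.leaf []))))))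
def R_t5 : TL := (TL.node (TL.node (TL.node (TL.node (TL.node (TL.node (TL.leaf []) (TL.leaf [nat_lit 0, nat_lit 3])) (TL.leaf [])) (TL.node (TL.node (TL.leaf []) (TL.leaf [nat_lit 1, nat_lit 2, nat_lit 3])) (TL.leaf []))) (TL.node (TL.node (TL.node (TL.leaf []) (TL.leaf [])) (TL.leaf [])) (TL.node (TL.node (TL.leaf []) (TL.leaf [])) (TL.leaf [])))) (TL.node (TL.node (TL.node (TL.node (TL.leaf []) (TL.leaf [])) (TL.leaf [])) (TL.node (TL.node (TL.leaf []) (TL.leaf [])) (TL.leaf []))) (TL.node (TL.node (TL.node (TL.leaf []) (TL.leaf [])) (TL.leaf [])) (TL.node (TL.node (TL.leaf []) (TL.leaf [])) (TL.leaf []))))) (TL.node (TL.node (TL.node (TL.node (TL.node (TL.leaf []) (TL.leaf [])) (TL.leaf [])) (TL.node (TL.node (TL.leaf []) (TL.leaf [])) (TL.leaf []))) (TL.node (TL.node (TL.node (TL.leaf []) (TL.leaf [])) (TL.leaf [])) (TL.node (TL.node (TL.leaf []) (TL.leaf [])) (TL.leaf [])))) (TL.node (TL.node (TL.node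 (TL.node (TL.leaf []) (TL.leaf [])) (TL.leaf [])) (TL.node (TL.node (TL.leaf []) (TL.leaf [])) (TL.leaf []))) (TL.node (TL.node (TL.node (TL.leaf []) (TL.leaf [])) (TL.leaf [])) (TL.node (TL.node (TL.leaf []) (TL.leaf [])) (TL.leaf []))))))
def R_t6 : TL := (TL.node R_t4 R_t5)
def R_t : TL := (TL.node R_t3 R_t6)
noncomputable def R (i : ℕ) : List ℕ := TL.get R_t i
def Zm (i : ℕ) : ℕ := Nat.land (Nat.shiftRight (nat_lit 0x200802200000000008c08000) (Nat.mul (nat_lit 2) i)) (nat_lit 3)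
def Zc (i : ℕ) : ℕ := Nat.land (Nat.shiftRight (nat_lit 0x20408102040810408102040810202040810204081060e1c3870c1830204081020408104081020408102020408102040810810183060c000) (Nat.mul (nat_lit 7) i)) (nat_lit 127)
def U_t1 : TL := (TL.node (TL.node (TL.node (TL.node (TL.node (TL.node (TL.leaf [nat_lit 0]) (TL.leaf [nat_lit 0])) (TL.node (TL.leaf [nat_lit 0]) (TL.leaf [nat_lit 0]))) (TL.node (TL.node (TL.leaf [nat_lit 0]) (TL.leaf [nat_lit 0])) (TL.leaf [nat_lit 0]))) (TL.node (TL.node (TL.node (TL.leaf []) (TL.leaf [])) (TL.node (TL.leaf []) (TL.leaf []))) (TL.node (TL.node (TL.leaf []) (TL.leaf [])) (TL.leaf [])))) (TL.node (TL.node (TL.node (TL.node (TL.leaf []) (TL.leaf [])) (TL.node (TL.leaf []) (TL.leaf []))) (TL.node (TL.node (TL.leaf []) (TL.leaf [])) (TL.leaf []))) (TL.node (TL.node (TL.node (TL.leaf []) (TL.leaf [])) (TL.node (TL.leaf []) (TL.leaf []))) (TL.node (TL.node (TL.leaf []) (TL.leaf [])) (TL.leaf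 []))))) (TL.node (TL.node (TL.node (TL.node (TL.node (TL.leaf [nat_lit 4]) (TL.leaf [nat_lit 4])) (TL.node (TL.leaf [nat_lit 0, nat_lit 4]) (TL.leaf [nat_lit 0, nat_lit 4]))) (TL.node (TL.node (TL.leaf [nat_lit 4]) (TL.leaf [nat_lit 0, nat_lit 2, nat_lit 4])) (TL.leaf [nat_lit 0, nat_lit 4]))) (TL.node (TL.node (TL.node (TL.leaf []) (TL.leaf [])) (TL.node (TL.leaf []) (TL.leaf []))) (TL.node (TL.node (TL.leaf []) (TL.leaf [])) (TL.leaf [])))) (TL.node (TL.node (TL.node (TL.node (TL.leaf []) (TL.leaf [])) (TL.node (TL.leaf []) (TL.leaf []))) (TL.node (TL.node (TL.leaf []) (TL.leaf [])) (TL.leaf []))) (TL.node (TL.node (TL.node (TL.leaf []) (TL.leaf [])) (TL.node (TL.leaf []) (TL.leaf []))) (TL.node (TL.node (TL.leaf []) (TL.leaf [])) (TL.leaf []))))))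
def U_t2 : TL := (TL.node (TL.node (TL.node (TL.node (TL.node (TL.node (TL.leaf [nat_lit 2]) (TL.leaf [nat_lit 0, nat_lit 2])) (TL.node (TL.leaf [nat_lit 2]) (TL.leaf [nat_lit 2, nat_lit 4]))) (TL.node (TL.node (TL.leaf [nat_lit 2]) (TL.leaf [nat_lit 2])) (TL.leaf [nat_lit 0, nat_lit 2]))) (TL.node (TL.node (TL.node (TL.leaf []) (TL.leaf [])) (TL.node (TL.leaf []) (TL.leaf []))) (TL.node (TL.node (TL.leaf []) (TL.leaf [])) (TL.leaf [])))) (TL.node (TL.node (TL.node (TL.node (TL.leaf []) (TL.leaf [])) (TL.node (TL.leaf []) (TL.leaf []))) (TL.node (TL.node (TL.leaf []) (TL.leaf [])) (TL.leaf []))) (TL.node (TL.node (TL.node (TL.leaf []) (TL.leaf [])) (TL.node (TL.leaf []) (TL.leaf []))) (TL.node (TL.node (TL.leaf []) (TL.leaf [])) (TL.leaf []))))) (TL.node (TL.node (TL.node (TL.node (TL.node (TL.leaf []) (TL.leaf [])) (TL.node (TL.leaf []) (TL.leaf []))) (TL.node (TL.node (TL.leaf []) (TL.leaf [])) (TL.leaf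 []))) (TL.node (TL.node (TL.node (TL.leaf []) (TL.leaf [])) (TL.node (TL.leaf []) (TL.leaf []))) (TL.node (TL.node (TL.leaf []) (TL.leaf [])) (TL.leaf [])))) (TL.node (TL.node (TL.node (TL.node (TL.leaf []) (TL.leaf [])) (TL.node (TL.leaf []) (TL.leaf []))) (TL.node (TL.node (TL.leaf []) (TL.leaf [])) (TL.leaf []))) (TL.node (TL.node (TL.node (TL.leaf []) (TL.leaf [])) (TL.node (TL.leaf []) (TL.leaf []))) (TL.node (TL.node (TL.leaf []) (TL.leaf [])) (TL.leaf []))))))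
def U_t3 : TL := (TL.node U_t1 U_t2)
def U_t4 : TL := (TL.node (TL.node (TL.node (TL.node (TL.node (TL.node (TL.leaf [nat_lit 1]) (TL.leaf [nat_lit 1])) (TL.node (TL.leaf [nat_lit 1]) (TL.leaf [nat_lit 0, nat_lit 1, nat_lit 2, nat_lit 3, nat_lit 4]))) (TL.node (TL.node (TL.leaf [nat_lit 1]) (TL.leaf [nat_lit 1])) (TL.leaf [nat_lit 0, nat_lit 1]))) (TL.node (TL.node (TL.node (TL.leaf []) (TL.leaf [])) (TL.node (TL.leaf []) (TL.leaf []))) (TL.node (TL.node (TL.leaf []) (TL.leaf [])) (TL.leaf [])))) (TL.node (TL.node (TL.node (TL.node (TL.leaf []) (TL.leaf [])) (TL.node (TL.leaf []) (TL.leaf []))) (TL.node (TL.node (TL.leaf []) (TL.leaf [])) (TL.leaf []))) (TL.node (TL.node (TL.node (TL.leaf []) (TL.leaf [])) (TL.node (TL.leaf []) (TL.leaf []))) (TL.node (TL.node (TL.leaf []) (TL.leaf [])) (TL.leaf []))))) (TL.node (TL.node (TL.node (TL.node (TL.node (TL.leaf []) (TL.leaf [])) (TL.node (TL.leaf []) (TL.leaf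 []))) (TL.node (TL.node (TL.leaf []) (TL.leaf [])) (TL.leaf []))) (TL.node (TL.node (TL.node (TL.leaf []) (TL.leaf [])) (TL.node (TL.leaf []) (TL.leaf []))) (TL.node (TL.node (TL.leaf []) (TL.leaf [])) (TL.leaf [])))) (TL.node (TL.node (TL.node (TL.node (TL.leaf []) (TL.leaf [])) (TL.node (TL.leaf []) (TL.leaf []))) (TL.node (TL.node (TL.leaf []) (TL.leaf [])) (TL.leaf []))) (TL.node (TL.node (TL.node (TL.leaf []) (TL.leaf [])) (TL.node (TL.leaf []) (TL.leaf []))) (TL.node (TL.node (TL.leaf []) (TL.leaf [])) (TL.leaf []))))))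
def U_t5 : TL := (TL.node (TL.node (TL.node (TL.node (TL.node (TL.node (TL.leaf [nat_lit 3]) (TL.leaf [nat_lit 0, nat_lit 3])) (TL.node (TL.leaf [nat_lit 0, nat_lit 3]) (TL.leaf [nat_lit 0, nat_lit 3, nat_lit 4]))) (TL.node (TL.node (TL.leaf [nat_lit 0, nat_lit 3]) (TL.leaf [nat_lit 1, nat_lit 2, nat_lit 3])) (TL.leaf [nat_lit 3]))) (TL.node (TL.node (TL.node (TL.leaf []) (TL.leaf [])) (TL.node (TL.leaf []) (TL.leaf []))) (TL.node (TL.node (TL.leaf []) (TL.leaf [])) (TL.leaf [])))) (TL.node (TL.node (TL.node (TL.node (TL.leaf []) (TL.leaf [])) (TL.node (TL.leaf []) (TL.leaf []))) (TL.node (TL.node (TL.leaf []) (TL.leaf [])) (TL.leaf []))) (TL.node (TL.node (TL.node (TL.leaf []) (TL.leaf [])) (TL.node (TL.leaf []) (TL.leaf []))) (TL.node (TL.node (TL.leaf []) (TL.leaf [])) (TL.leaf []))))) (TL.node (TL.node (TL.node (TL.node (TL.node (TL.leaf []) (TL.leaf [])) (TL.node (TL.leaf []) (TL.leaf []))) (TL.node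 (TL.node (TL.leaf []) (TL.leaf [])) (TL.leaf []))) (TL.node (TL.node (TL.node (TL.leaf []) (TL.leaf [])) (TL.node (TL.leaf []) (TL.leaf []))) (TL.node (TL.node (TL.leaf []) (TL.leaf [])) (TL.leaf [])))) (TL.node (TL.node (TL.node (TL.node (TL.leaf []) (TL.leaf [])) (TL.node (TL.leaf []) (TL.leaf []))) (TL.node (TL.node (TL.leaf []) (TL.leaf [])) (TL.leaf []))) (TL.node (TL.node (TL.node (TL.leaf []) (TL.leaf [])) (TL.node (TL.leaf []) (TL.leaf []))) (TL.node (TL.node (TL.leaf []) (TL.leaf [])) (TL.leaf []))))))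
def U_t6 : TL := (TL.node U_t4 U_t5)
def U_t : TL := (TL.node U_t3 U_t6)
noncomputable def U (i : ℕ) : List ℕ := TL.get U_t i
noncomputable def f1 : ℕ → ℕ := mvE Q (nat_lit 24) (nat_lit 2) (nat_lit 6) Zm
theorem b0 : Nat.beq (rng f1 (nat_lit 0) (nat_lit 64)) (nat_lit 0) = true := by decide +kernel
theorem h1 : ∀ i < 64, f1 i = 0 := by
  have h := zero_lt_zero f1
  have h := zero_lt_add (a := (nat_lit 0)) (n := (nat_lit 64)) (b := (nat_lit 64)) h b0 rfl
  exact h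
theorem sy : Sy q 2 6 R := md.sy' (by decide) (by decide) (upTo_beq (by decide +kernel)) (pr := 64) rfl h1 (by rw [card12]; decide)
noncomputable def f2 : ℕ → ℕ := ncE Q (nat_lit 24) (nat_lit 5) (nat_lit 6) (nat_lit 32) Zc
theorem c0 : Nat.beq (rng f2 (nat_lit 0) (nat_lit 64)) (nat_lit 0) = true := by decide +kernel
theorem h2 : ∀ i < 64, f2 i = 0 := by
  have h := zero_lt_zero f2
  have h := zero_lt_add (a := (nat_lit 0)) (n := (nat_lit 64)) (b := (nat_lit 64)) h c0 rfl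
  exact h
def sg (i : ℕ) : ℕ := Nat.land (Nat.shiftRight (nat_lit 43399) (Nat.mul (nat_lit 4) i)) (nat_lit 15)
def si (i : ℕ) : ℕ := Nat.land (Nat.shiftRight (nat_lit 39544) (Nat.mul (nat_lit 4) i)) (nat_lit 15)
def V_t : TN := (TN.leaf (nat_lit 0x4f94d893019e5002860eb140ff29b9a6002841ed1430a29ee4660dce1391c30c30600608a0a05514002186e660564a794983732846060a88c04018c02301e443dd8c6c4182733014a40374a0c51401f187845035886e518283281e643634c53b180f0214b06003c4067901c2281ee40c08a00d0ca5730312500706039101f728e4e60a00a006080c8202ba506a4a380181df281865016081eb146a63011e528a8c4c19c200380ec40254c044943cc2866c5018083b1180030932a70354a0b3940d52006c3023c8051102232801a40700a3069819d286c47097ce19114098281b04020cc05390a633013060c20a1f99c23f300c4436a8c07e188d53466c7009ca01a9435c3053a50a54c050103033004433764c154947da3011e60c3cc54e1c08d2819a500002514187d93018050268a01f9498d381ee60ffcc04610299301b0601f486ac182332811850770a07e90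0cd2002c30234c19b94d82313007083cc2b31803f206c050fd8c1141c8a238012300f4a54e9c00d1066c60264a300183dd28d5460d7cc0ea9419c28530502a88004900752006033cf4c05318dfc3001a30094a306180f520c4e6080cc04b9829a281ae50dc8a06b903fc28010300cc62c1980963132e700f081fe180222805230830c2b91819f2851a7003c81b1947d8302d050994c01e1429628c06608c0aef99d60f381ba618dcc1ac941ff291be6015c8c6f9c06a2010452234c07e140a8286ee5060ca1b814cca384e0608a4a4061cc2630198530fcc033908a3304e070dd4a3ac9802828138500a861e0147653184060c94b8419c2372846e60234801a8c35c2e6ae70f70a315180a5304c663fd8c07b180151804c43f60e1bf94cf23000e2008080040865f30052558a0e0199002a2144e630f0c0c014065203f850ff4a6019888c303865022880030835d2951070014419e947f330cf860c3ca154143cf2839250dfcc0b2940632061250f24a044980371841260fcca7ad180362854670a28a19a94023186ac508d4c04410256386b050768a0b114676301fa6008c806d103df2919a60a9cc02c901822806040980c07e948d7300ee47008e00000269301be403fc8501980a6286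00500a0601111d5a3806e40894a4be2027230aec62a8cc045180262803033fc0c14b980a8306fa5032481bb142283119262a88c0419433c2b2f870a88e2c51829528ef860358a66d1cd753014c4037ca3bf9809d28c4c628a4c46118080282be50570a011940a9282c653cc0c06113627380002003c61b11436a28790500c8603811f6a3814a5003074b01ca66380cc400dca04490c95314d06065ca0cc14235299867028cc61398003182d450c80a3929807f201ba41d58c01e8c0c32003a30300800108f23304c473354c31a980031032a50ddcc1f818160281f841958c0010470a3044e60a60c02d1030328b4663df4c0781802028c14607f4a01e0c00820b3e63768c2d11823228032316a4c314980352046e719ccc015140562066061dc0cc6b9cf3330664603c0a1eb947dc311fe70228a4619c2892b01a70a20a51ba003f1831a500a480ec14d70383ec55768e07b108a3380021032880ec941ca2835450f70e1f998357301b843020c04e183ca2801442294c06e147f73004e4))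
noncomputable def V (i : ℕ) : ℕ := get9 V_t (nat_lit 19) (nat_lit 524287) i
noncomputable def f3 : ℕ → ℕ := clE Q sg si (nat_lit 24) (nat_lit 0) [nat_lit 17, nat_lit 1, nat_lit 16, nat_lit 12, nat_lit 0] V
theorem d0 : Nat.beq (rng f3 (nat_lit 0) (nat_lit 494)) (nat_lit 0) = true := by decide +kernel
theorem h3 : ∀ i < 494, f3 i = 0 := by
  have h := zero_lt_zero f3
  have h := zero_lt_add (a := (nat_lit 0)) (n := (nat_lit 494)) (b := (nat_lit 494)) h d0 rfl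
  exact h
theorem loc : Loc q 5 6 7 R := md.loc sy (by decide) (ps := 32) (pr := 64) ⟨rfl, rfl⟩ h2 (U := U)
  (upTo_beq (by decide +kernel)) (l := [([nat_lit 0, nat_lit 6, nat_lit 5], (nat_lit 3))]) (by decide +kernel) ⟨by decide, by decide⟩
  (md.cls (by decide +kernel) h3 fun _ _ => trivial) (by rw [card12]; decide)
def cH_t : TL := (TL.node (TL.leaf []) (TL.leaf [nat_lit 6, nat_lit 0]))
noncomputable def cH (i : ℕ) : List ℕ := TL.get cH_t i
def cI_t : TL := (TL.node (TL.leaf []) (TL.leaf [nat_lit 0, nat_lit 6, nat_lit 6, nat_lit 6, nat_lit 6, nat_lit 6, nat_lit 6, nat_lit 6]))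
noncomputable def cI (i : ℕ) : List ℕ := TL.get cI_t i
def cW_t : TL := (TL.node (TL.leaf []) (TL.leaf [nat_lit 3, nat_lit 5]))
noncomputable def cW (i : ℕ) : List ℕ := TL.get cW_t i
def cE (i : ℕ) : ℕ := Nat.land (Nat.shiftRight (nat_lit 2) (Nat.mul (nat_lit 1) i)) (nat_lit 1)
theorem core : Core q 5 6 7 := md.core (k := 1) loc (by decide) (H := cH) (H' := cI) (W := cW) (E := cE) (pk := 2) rfl
  (upTo_beq (by decide +kernel))

end Cfsg.Agent.Ct.M12
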